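import Cfsg.Agent.R2.Spec.NA5.Main5
import Cfsg.Agent.R2.Spec.E.NonCL

/-!
# S3435, packet NON-A, `dimL t ≥ 5` (helper3): the leftover numbers are not the numbers of `L`
-/

set_option autoImplicit false

namespace Cfsg.Agent.R2.Spec.NA5

open Cfsg Cfsg.Agent.H426.LieFam Cfsg.Agent.R2.Spec Cfsg.Agent.R2.Spec.P1 Cfsg.Agent.R2.Spec.E
open Cfsg.Agent.R2.Spec.NA
open Cfsg.Agent.H403.NumTop hiding nu

/-- the pairs of numbers of `L` -/
def valsP (n q : ℕ) : List (ℕ × ℕ) :=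
  (if 6 ≤ n then [(ttor (.psl n) q n, ttor (.psl n) q (n - 1)), (ttor (.psl n) q (n - 1), ttor (.psl n) q n),
      (ttor (.psu n) q n, ttor (.psu n) q (n - 1)), (ttor (.psu n) q (n - 1), ttor (.psu n) q n)] else []) ++
    [(ttor (.psp n) q n, ttor (.psp n) q (2 * n)), (ttor (.psp n) q (2 * n), ttor (.psp n) q n),
      (ttor (.ominus n) q (2 * n), ttor (.ominus n) q (2 * (n - 1))),
      (ttor (.ominus n) q (2 * (n - 1)), ttor (.ominus n) q (2 * n)),
      (ttor (.oplus n) q n, ttor (.oplus n) q (2 * (n - 1))), (ttor (.oplus n) q (2 * (n - 1)), ttor (.oplus n) q n),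
      (ttor (.oplus n) q (n - 1), ttor (.oplus n) q (2 * (n - 1))),
      (ttor (.oplus n) q (2 * (n - 1)), ttor (.oplus n) q (n - 1))]

def brq (M A n q : ℕ) : Bool := (valsP n q).all fun x => decide (x.1 ≠ M) || decide (x.2 % A ≠ 0)

def nloop (M A q : ℕ) (fuel : ℕ) : ℕ → Bool :=
  Nat.rec (motive := fun _ => ℕ → Bool) (fun _ => false)
    (fun _ ih n => decide (8 * (q + 1) * M < q ^ (n - 1)) || (brq M A n q && ih (n + 1))) fuel

def qloop (M A u : ℕ) (fuel : ℕ) : ℕ → Bool :=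
  Nat.rec (motive := fun _ => ℕ → Bool) (fun _ => false)
    (fun _ ih q => decide (48 * M < q ^ 5) || ((decide (Nat.gcd q u ≠ 1) || nloop M A q 60 5) && ih (q + 2))) fuel

/-- the check for one tuple -/
def brT (x : ℕ × Bool × ℕ × Bool × ℕ × ℕ) : Bool :=
  qloop (x.2.2.2.2.2 * ZZ x.2.1 x.2.2.2.1 x.1 x.2.2.2.2.1 / Nat.gcd x.1 (AA x.2.2.2.1 1 x.2.2.2.2.1))
    (AA x.2.2.2.1 x.2.2.1 x.2.2.2.2.1) x.2.2.2.2.1 3000 3

set_option maxRecDepth 100000 in
theorem brT_all : (bad5.all brT) = true := by decide +kernel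

theorem nloop_succ {M A q fuel n : ℕ} :
    nloop M A q (fuel + 1) n = (decide (8 * (q + 1) * M < q ^ (n - 1)) || (brq M A n q && nloop M A q fuel (n + 1))) :=
  rfl

theorem nloop_spec {M A q : ℕ} (hq : 1 ≤ q) : ∀ {fuel n : ℕ}, nloop M A q fuel n = true → ∀ n', n ≤ n' →
    q ^ (n' - 1) ≤ 8 * (q + 1) * M → brq M A n' q = true := by
  intro fuel
  induction fuel with
  | zero => intro n h; exact absurd h (by simp [nloop])
  | succ l ih =>
    intro n h n' hn hle
    rw [nloop_succ, Bool.or_eq_true, Bool.and_eq_true, decide_eq_true_eq] at h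
    rcases h with h | ⟨h1, h2⟩
    · exfalso
      have h3 : q ^ (n - 1) ≤ q ^ (n' - 1) := Nat.pow_le_pow_right hq (Nat.sub_le_sub_right hn 1)
      omega
    · rcases Nat.eq_or_lt_of_le hn with rfl | hn
      · exact h1
      · exact ih h2 n' hn hle

theorem qloop_succ {M A u fuel q : ℕ} :
    qloop M A u (fuel + 1) q =
      (decide (48 * M < q ^ 5) || ((decide (Nat.gcd q u ≠ 1) || nloop M A q 60 5) && qloop M A u fuel (q + 2))) :=
  rfl

theorem qloop_spec {M A u : ℕ} : ∀ {fuel q : ℕ}, qloop M A u fuel q = true → ∀ r, 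
    (q + 2 * r) ^ 5 ≤ 48 * M → Nat.gcd (q + 2 * r) u = 1 → nloop M A (q + 2 * r) 60 5 = true := by
  intro fuel
  induction fuel with
  | zero => intro q h; exact absurd h (by simp [qloop])
  | succ l ih =>
    intro q h r hle hg
    rw [qloop_succ, Bool.or_eq_true, Bool.and_eq_true, decide_eq_true_eq, Bool.or_eq_true, decide_eq_true_eq] at h
    rcases h with h | ⟨h1, h2⟩
    · exfalso
      have h3 : q ^ 5 ≤ (q + 2 * r) ^ 5 := Nat.pow_le_pow_left (by omega) 5
      omega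
    · cases r with
      | zero =>
        rw [mul_zero, add_zero] at hle hg ⊢
        exact h1.resolve_left (fun h4 => h4 hg)
      | succ r' =>
        rw [show q + 2 * (r' + 1) = q + 2 + 2 * r' by ring] at hle hg ⊢
        exact ih h2 r' hle hg

theorem mem_valsP {t : Fam} {q i j : ℕ} (hD : 5 ≤ dimL t) (h : PairOK t i j) :
    ∃ n, 5 ≤ n ∧ n - 1 ≤ dimL t ∧ (ttor t q i, ttor t q j) ∈ valsP n q := by
  cases t with
  | psl n =>
    change 5 ≤ n - 1 at hD
    refine ⟨n, by omega, le_refl (n - 1), ?_⟩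
    rw [valsP, if_pos (show 6 ≤ n by omega)]
    refine List.mem_append_left _ ?_
    rcases h with ⟨rfl, h⟩ | ⟨h, rfl⟩
    · obtain rfl : j = i - 1 := by omega
      simp
    · obtain rfl : i = j - 1 := by omega
      simp
  | psu n =>
    change 5 ≤ n - 1 at hD
    refine ⟨n, by omega, le_refl (n - 1), ?_⟩
    rw [valsP, if_pos (show 6 ≤ n by omega)]
    refine List.mem_append_left _ ?_
    rcases h with ⟨rfl, h⟩ | ⟨h, rfl⟩
    · obtain rfl : j = i - 1 := by omega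
      simp
    · obtain rfl : i = j - 1 := by omega
      simp
  | psp n =>
    change 5 ≤ n at hD
    refine ⟨n, hD, by change n - 1 ≤ n; omega, ?_⟩
    refine List.mem_append_right _ ?_
    rcases h with ⟨-, ⟨rfl, rfl⟩ | ⟨rfl, rfl⟩⟩ <;> simp
  | oodd n =>
    change 5 ≤ n at hD
    refine ⟨n, hD, by change n - 1 ≤ n; omega, ?_⟩
    rw [ttor_oodd, ttor_oodd]
    refine List.mem_append_right _ ?_
    rcases h with ⟨-, ⟨rfl, rfl⟩ | ⟨rfl, rfl⟩⟩ <;> simp
  | oplus n =>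
    have hn : 5 ≤ n := by
      change 5 ≤ (if n % 2 = 0 then n - 1 else n) at hD
      split_ifs at hD <;> omega
    refine ⟨n, hn, ?_, ?_⟩
    · change n - 1 ≤ (if n % 2 = 0 then n - 1 else n)
      split_ifs <;> omega
    · refine List.mem_append_right _ ?_
      rcases h with ⟨-, ⟨rfl, rfl⟩ | ⟨rfl, rfl⟩⟩ | ⟨-, ⟨rfl, rfl⟩ | ⟨rfl, rfl⟩⟩ <;> simp
  | ominus n =>
    change 5 ≤ n at hD
    refine ⟨n, hD, by change n - 1 ≤ n; omega, ?_⟩
    refine List.mem_append_right _ ?_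
    rcases h with ⟨rfl, rfl⟩ | ⟨rfl, rfl⟩ <;> simp
  | _ => exact h.elim

variable {s e : Bool} {m k u q p H M N d : ℕ} {a b c : ℤ}

/-- a tuple with `brT` is impossible -/
theorem NE.not_brT (h : NE s e m k u q p H M N d a b c) (hd : d = Nat.gcd m (AA e 1 u)) (hs : q ^ 5 ≤ 48 * M)
    {f : ℕ} (hqp : q = p ^ f) {t : Fam} {i j : ℕ} (hq2 : q % 2 = 1) (hr : 4 ≤ rk t) (hD : 5 ≤ dimL t)
    (hP : PairOK t i j) (hM : M = ttor t q i) (hN : N = ttor t q j) (hlow : q ^ dimL t ≤ 8 * dgL t q * M)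
    (h1 : brT (m, s, k, e, u, H) = true) : False := by
  have hq := h.q3
  have heq := h.eqM
  have hd0 := h.d_pos
  have hMe : M = H * ZZ s e m u / d := by rw [← heq]; exact (Nat.mul_div_cancel_left _ hd0).symm
  have h1' : qloop M (AA e k u) u 3000 3 = true := by
    rw [hMe, hd]; exact h1
  have hgu : Nat.gcd q u = 1 := by
    rw [hqp]
    exact Nat.Coprime.pow_left _ ((Nat.Prime.coprime_iff_not_dvd h.p_prime).2 h.pu)
  have h2 := qloop_spec h1' ((q - 3) / 2) (by rwa [show 3 + 2 * ((q - 3) / 2) = q by omega])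
    (by rwa [show 3 + 2 * ((q - 3) / 2) = q by omega])
  rw [show 3 + 2 * ((q - 3) / 2) = q by omega] at h2
  obtain ⟨n, hn5, hnD, hmem⟩ := mem_valsP (q := q) hD hP
  have hdg : dgL t q ≤ q + 1 := by
    cases t with
    | psl n => exact (Nat.gcd_le_right _ (by omega)).trans (by omega)
    | psu n => exact Nat.gcd_le_right _ (by omega)
    | _ => exact Nat.le_add_left _ _
  have h3 : q ^ (n - 1) ≤ 8 * (q + 1) * M := by
    calc q ^ (n - 1) ≤ q ^ dimL t := Nat.pow_le_pow_right (by omega) hnD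
      _ ≤ 8 * dgL t q * M := hlow
      _ ≤ 8 * (q + 1) * M := Nat.mul_le_mul_right _ (Nat.mul_le_mul_left _ hdg)
  have h4 := nloop_spec (by omega) h2 n hn5 h3
  rw [← hM, ← hN] at hmem
  have h5 := List.all_eq_true.1 h4 _ hmem
  simp only [Bool.or_eq_true, decide_eq_true_eq] at h5
  rcases h5 with h5 | h5
  · exact h5 rfl
  · exact h5 (Nat.mod_eq_zero_of_dvd h.n1)

/-- the leftover is impossible -/
theorem NE.not_bad5 (h : NE s e m k u q p H M N d a b c) (hd : d = Nat.gcd m (AA e 1 u)) (hs : q ^ 5 ≤ 48 * M)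
    {f : ℕ} (hqp : q = p ^ f) {t : Fam} {i j : ℕ} (hq2 : q % 2 = 1) (hr : 4 ≤ rk t) (hD : 5 ≤ dimL t)
    (hP : PairOK t i j) (hM : M = ttor t q i) (hN : N = ttor t q j) (hlow : q ^ dimL t ≤ 8 * dgL t q * M)
    (hb : (m, s, k, e, u, H) ∈ bad5) : False :=
  h.not_brT hd hs hqp hq2 hr hD hP hM hN hlow (List.all_eq_true.1 brT_all _ hb)

end Cfsg.Agent.R2.Spec.NA5
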