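import Cfsg.Agent.R2.Spec.NA5.Lvl5

/-!
# S3435, packet NON-A, `dimL t ≥ 5` (helper3): the finite check, definitions
-/

set_option autoImplicit false

namespace Cfsg.Agent.R2.Spec.NA5

open Cfsg.Agent.R2.Spec.NA
open Cfsg.Agent.H403.NumTop hiding nu

/-- the exact condition -/
def exq (s e : Bool) (m k u H θ j : ℕ) : Bool :=
  rZ s e m k u (Nat.gcd m (AA e 1 u)) H j &&
    chk5 θ (rT s e m k u j) (rR s e m k u j) (rMu s u j) (Nat.gcd m (AA e 1 u)) H (ZZ s e m u)

def exL (s e : Bool) (m k u H : ℕ) : Bool := decide (4 * (H * ZZ s e m u) < bigL e m k u)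

def exA (s e : Bool) (m k u H : ℕ) : Bool :=
  exq s e m k u H 2 0 || (exq s e m k u H 2 1 || (exq s e m k u H 2 2 || (exq s e m k u H 2 3 ||
    (exL s e m k u H || (exq s e m k u H 16 0 || (exq s e m k u H 16 1 || (exq s e m k u H 16 2 ||
      exq s e m k u H 16 3)))))))

/-- the leftover -/
def bad5 : List (ℕ × Bool × ℕ × Bool × ℕ × ℕ) :=
  [(5, false, 3, false, 3, 1), (5, false, 3, false, 4, 1), (5, false, 3, false, 5, 1), (5, false, 3, false, 6, 1),
    (5, false, 3, false, 7, 1), (5, false, 3, false, 9, 1), (5, false, 3, false, 14, 1), (5, false, 3, true, 2, 1),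
    (5, false, 3, true, 3, 1), (5, false, 3, true, 4, 1), (5, false, 3, true, 5, 1), (5, false, 3, true, 6, 1),
    (5, false, 3, true, 7, 1), (5, false, 3, true, 11, 1), (5, true, 3, false, 3, 1), (5, true, 3, false, 4, 1),
    (5, true, 3, false, 5, 1), (5, true, 3, false, 7, 1), (5, true, 3, true, 2, 1), (5, true, 3, true, 3, 1),
    (5, true, 3, true, 4, 1), (5, true, 3, true, 5, 1), (5, true, 3, true, 7, 1), (6, false, 4, false, 2, 1),
    (6, false, 4, false, 3, 1), (6, false, 4, false, 4, 1), (6, false, 4, false, 5, 1), (6, false, 4, true, 2, 1),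
    (6, false, 4, true, 3, 1), (6, false, 4, true, 4, 1), (6, false, 4, true, 5, 1), (6, false, 4, true, 7, 1),
    (6, true, 4, false, 2, 1), (6, true, 4, false, 3, 1), (6, true, 4, false, 4, 1), (6, true, 4, false, 5, 1),
    (6, true, 4, false, 6, 1), (6, true, 4, false, 7, 1), (6, true, 4, false, 8, 1), (6, true, 4, false, 9, 1),
    (6, true, 4, false, 10, 1), (6, true, 4, false, 11, 1), (6, true, 4, false, 12, 1), (6, true, 4, false, 13, 1),
    (6, true, 4, false, 14, 1), (6, true, 4, false, 15, 1), (6, true, 4, false, 16, 1), (6, true, 4, false, 17, 1),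
    (6, true, 4, false, 19, 1), (6, true, 4, false, 20, 1), (6, true, 4, false, 21, 1), (6, true, 4, false, 23, 1),
    (6, true, 4, false, 25, 1), (6, true, 4, false, 26, 1), (6, true, 4, false, 29, 1), (6, true, 4, false, 32, 1),
    (6, true, 4, false, 32, 5), (6, true, 4, false, 35, 1), (6, true, 4, false, 41, 1), (6, true, 4, false, 47, 1),
    (6, true, 4, true, 2, 1), (6, true, 4, true, 3, 1), (6, true, 4, true, 4, 1), (6, true, 4, true, 5, 1),
    (6, true, 4, true, 6, 1), (6, true, 4, true, 7, 1), (6, true, 4, true, 8, 1), (6, true, 4, true, 9, 1),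
    (6, true, 4, true, 10, 1), (6, true, 4, true, 11, 1), (6, true, 4, true, 12, 1), (6, true, 4, true, 13, 1),
    (6, true, 4, true, 14, 1), (6, true, 4, true, 15, 1), (6, true, 4, true, 16, 1), (6, true, 4, true, 17, 1),
    (6, true, 4, true, 19, 1), (6, true, 4, true, 21, 1), (6, true, 4, true, 22, 1), (6, true, 4, true, 23, 1),
    (6, true, 4, true, 25, 1), (6, true, 4, true, 28, 1), (6, true, 4, true, 31, 1), (6, true, 4, true, 32, 5),
    (6, true, 4, true, 37, 1), (6, true, 4, true, 43, 1), (7, false, 4, false, 2, 1), (7, false, 4, false, 3, 1),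
    (7, false, 4, false, 4, 1), (7, false, 4, false, 5, 1), (7, false, 4, false, 6, 1), (7, false, 4, false, 8, 1),
    (7, false, 4, false, 32, 5), (7, false, 4, true, 2, 1), (7, false, 4, true, 3, 1), (7, false, 4, true, 4, 1),
    (7, false, 4, true, 5, 1), (7, false, 4, true, 6, 1), (7, false, 4, true, 7, 1), (7, false, 4, true, 32, 5),
    (7, false, 5, false, 2, 1), (7, false, 5, true, 2, 1), (7, true, 3, false, 3, 1), (7, true, 3, true, 2, 1),
    (7, true, 3, true, 3, 1), (7, true, 3, true, 5, 1), (7, true, 4, false, 2, 1), (7, true, 4, false, 5, 1),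
    (7, true, 4, true, 2, 1), (7, true, 4, true, 3, 1), (7, true, 4, true, 4, 1), (7, true, 5, false, 2, 1),
    (7, true, 5, false, 3, 1), (7, true, 5, false, 4, 1), (7, true, 5, false, 5, 1), (7, true, 5, true, 2, 1),
    (7, true, 5, true, 3, 1), (7, true, 5, true, 4, 1), (7, true, 5, true, 5, 1), (8, false, 4, false, 2, 1),
    (8, false, 4, false, 3, 1), (8, false, 4, false, 4, 1), (8, false, 4, false, 5, 1), (8, false, 4, false, 6, 1),
    (8, false, 4, false, 7, 1), (8, false, 4, false, 8, 1), (8, false, 4, false, 32, 5),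
    (8, false, 4, false, 128, 7), (8, false, 4, true, 2, 1), (8, false, 4, true, 3, 1), (8, false, 4, true, 4, 1),
    (8, false, 4, true, 5, 1), (8, false, 4, true, 6, 1), (8, false, 4, true, 32, 5), (8, false, 4, true, 128, 7),
    (8, false, 5, false, 2, 1), (8, false, 5, false, 3, 1), (8, false, 6, false, 2, 1), (8, false, 6, false, 3, 1),
    (8, false, 6, true, 2, 1), (8, true, 5, false, 2, 1), (8, true, 5, true, 2, 1), (8, true, 5, true, 3, 1),
    (8, true, 6, false, 2, 1), (8, true, 6, false, 3, 1), (8, true, 6, true, 2, 1), (8, true, 6, true, 3, 1),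
    (9, false, 5, false, 2, 1), (9, false, 6, false, 2, 1), (9, false, 6, true, 2, 1), (9, false, 7, false, 2, 1),
    (9, false, 7, true, 2, 1), (9, true, 4, false, 2, 1), (9, true, 5, false, 2, 1), (9, true, 6, false, 2, 1),
    (9, true, 6, false, 3, 1), (9, true, 6, false, 4, 1), (9, true, 6, false, 5, 1), (9, true, 6, false, 8, 1),
    (9, true, 6, true, 2, 1), (9, true, 6, true, 3, 1), (9, true, 6, true, 4, 1), (9, true, 7, false, 2, 1),
    (9, true, 7, true, 2, 1), (10, false, 5, false, 2, 1), (10, false, 5, false, 3, 1), (10, false, 6, false, 2, 1),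
    (10, false, 6, false, 3, 1), (10, false, 6, false, 4, 1), (10, false, 6, true, 2, 1), (10, false, 6, true, 3, 1),
    (10, false, 6, true, 4, 1), (10, false, 7, false, 2, 1), (10, true, 6, false, 2, 1), (10, true, 6, false, 3, 1),
    (10, true, 6, true, 2, 1), (10, true, 6, true, 3, 1), (10, true, 6, true, 5, 1), (10, true, 7, false, 2, 1),
    (10, true, 7, true, 2, 1), (10, true, 8, false, 2, 1), (10, true, 8, true, 2, 1), (11, false, 6, false, 2, 1),
    (11, false, 7, false, 2, 1), (11, false, 8, false, 2, 1), (11, false, 8, true, 2, 1), (11, true, 7, false, 2, 1),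
    (11, true, 8, false, 2, 1), (11, true, 8, true, 2, 1), (11, true, 9, false, 2, 1), (12, false, 6, false, 2, 1),
    (12, false, 8, false, 2, 1), (12, false, 8, true, 2, 1), (12, false, 9, false, 2, 1), (12, true, 8, false, 2, 1),
    (12, true, 8, false, 3, 1), (12, true, 8, true, 2, 1), (12, true, 8, true, 3, 1), (12, true, 9, false, 2, 1),
    (12, true, 10, false, 2, 1), (13, false, 8, false, 2, 1), (13, true, 9, false, 2, 1), (13, true, 9, true, 2, 1),
    (13, true, 10, false, 2, 1), (14, false, 9, false, 2, 1), (14, true, 10, false, 2, 1),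
    (15, false, 10, false, 2, 1), (15, true, 10, false, 2, 1), (15, true, 10, true, 2, 1),
    (15, true, 11, false, 2, 1), (16, false, 10, false, 2, 1), (16, false, 10, true, 2, 1),
    (16, true, 10, true, 2, 1), (18, true, 12, false, 2, 1), (18, true, 12, true, 2, 1)]

def crA (s : Bool) (m k u H : ℕ) : Bool :=
  cr s m k u H 0 || (cr s m k u H 1 || (cr s m k u H 2 || (cr s m k u H 3 || (cr s m k u H 4 || (cr s m k u H 5 ||
    (cr s m k u H 6 || (cr s m k u H 7 || (cr s m k u H 8 || cr s m k u H 9))))))))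

def okk (s : Bool) (m k u H : ℕ) : Bool :=
  ((exA s true m k u H || bad5.contains (m, s, k, true, u, H)) || (!s && (decide (u = 2) && decide (k + 2 = m)))) &&
    ((exA s false m k u H || bad5.contains (m, s, k, false, u, H)) || (decide (u = 2) && decide (k = 3)))

/-- all `w`, starting at the second argument -/
def scan (s : Bool) (m k H : ℕ) (fuel : ℕ) : ℕ → Bool :=
  Nat.rec (motive := fun _ => ℕ → Bool) (fun _ => false)
    (fun _ ih w => crA s m k (w ^ H) H || (okk s m k (w ^ H) H && ih (w + 1))) fuel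

def str (s : Bool) (m k : ℕ) : Bool :=
  str5 s m k 0 || (str5 s m k 1 || (str5 s m k 2 || (str5 s m k 3 || str5 s m k 4)))

def HL : List ℕ := [1, 5, 7, 11, 13, 17, 19, 23, 25, 29, 31, 35, 37, 41, 43]

def fink (s : Bool) (m k : ℕ) : Bool :=
  str s m k || ((HL.all fun H => scan s m k H 8000 2) && crA s m k (2 ^ 47) 47)

def finm (m : ℕ) : Bool :=
  (List.range (m - 1)).all fun k => decide (k < 3) ||
    ((decide (m % k = 0) || fink true m k) &&
      ((decide ((m - 1) % k = 0) || (decide (m = 6) && decide (k = 3))) || fink false m k))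

end Cfsg.Agent.R2.Spec.NA5
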