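import Cfsg.Agent.R2.Spec.NA5.FinA
import Cfsg.Agent.R2.Spec.NA5.FinB

/-!
# S3435, packet NON-A, `dimL t ≥ 5` (helper3): the theorem about `NE`

`NE.main5` : the leftover `bad5`, or type II and `u = 2`, except `(m, i', j') = (6, 5, 3)`.
-/

set_option autoImplicit false

namespace Cfsg.Agent.R2.Spec.NA5

open Cfsg.Agent.R2.Spec.NA
open Cfsg.Agent.H403.NumTop hiding nu

variable {s e : Bool} {m k u q p H M N d : ℕ} {a b c : ℤ}

theorem exists_cr (h : crA s m k u H = true) : ∃ j, cr s m k u H j = true := by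
  simp only [crA, Bool.or_eq_true] at h
  rcases h with h | h | h | h | h | h | h | h | h | h
  · exact ⟨0, h⟩
  · exact ⟨1, h⟩
  · exact ⟨2, h⟩
  · exact ⟨3, h⟩
  · exact ⟨4, h⟩
  · exact ⟨5, h⟩
  · exact ⟨6, h⟩
  · exact ⟨7, h⟩
  · exact ⟨8, h⟩
  · exact ⟨9, h⟩

theorem exists_str (h : str s m k = true) : ∃ j, str5 s m k j = true := by
  simp only [str, Bool.or_eq_true] at h
  rcases h with h | h | h | h | h
  · exact ⟨0, h⟩
  · exact ⟨1, h⟩
  · exact ⟨2, h⟩
  · exact ⟨3, h⟩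
  · exact ⟨4, h⟩

theorem exists_exq (h : exA s e m k u H = true) :
    exL s e m k u H = true ∨ ∃ θ j, 1 ≤ θ ∧ exq s e m k u H θ j = true := by
  simp only [exA, Bool.or_eq_true] at h
  rcases h with h | h | h | h | h | h | h | h | h
  · exact Or.inr ⟨2, 0, by norm_num, h⟩
  · exact Or.inr ⟨2, 1, by norm_num, h⟩
  · exact Or.inr ⟨2, 2, by norm_num, h⟩
  · exact Or.inr ⟨2, 3, by norm_num, h⟩
  · exact Or.inl h
  · exact Or.inr ⟨16, 0, by norm_num, h⟩
  · exact Or.inr ⟨16, 1, by norm_num, h⟩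
  · exact Or.inr ⟨16, 2, by norm_num, h⟩
  · exact Or.inr ⟨16, 3, by norm_num, h⟩

theorem scan_zero {s : Bool} {m k H w : ℕ} : scan s m k H 0 w = false := rfl

theorem scan_succ {s : Bool} {m k H fuel w : ℕ} :
    scan s m k H (fuel + 1) w = (crA s m k (w ^ H) H || (okk s m k (w ^ H) H && scan s m k H fuel (w + 1))) := rfl

theorem scan_spec {s : Bool} {m k H : ℕ} : ∀ {fuel w : ℕ}, scan s m k H fuel w = true → ∀ w', w ≤ w' →
    (∃ j, cr s m k (w' ^ H) H j = true) ∨ okk s m k (w' ^ H) H = true := by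
  intro fuel
  induction fuel with
  | zero => intro w h; rw [scan_zero] at h; exact absurd h (by simp)
  | succ n ih =>
    intro w h w' hw
    rw [scan_succ, Bool.or_eq_true, Bool.and_eq_true] at h
    rcases h with h | ⟨h1, h2⟩
    · left
      obtain ⟨j, hj⟩ := exists_cr h
      exact ⟨j, cr_mono (Nat.pow_le_pow_left hw H) hj⟩
    · rcases Nat.eq_or_lt_of_le hw with rfl | hw
      · exact Or.inr h1
      · exact ih h2 w' hw

theorem NE.of_exq (h : NE s e m k u q p H M N d a b c) (hd : d = Nat.gcd m (AA e 1 u)) (hs : q ^ 5 ≤ 48 * M) {θ j : ℕ}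
    (hθ : 1 ≤ θ) (hc : exq s e m k u H θ j = true) : False := by
  rw [exq, Bool.and_eq_true, ← hd] at hc
  exact semi5_false hθ h.q3 h.eqM hs (h.bd j hc.1) hc.2

theorem NE.of_exL (h : NE s e m k u q p H M N d a b c) (hs : q ^ 5 ≤ 48 * M) (hc : exL s e m k u H = true) : False := by
  rw [exL, decide_eq_true_eq] at hc
  exact absurd (h.bigL_le hs) (not_le.2 hc)

theorem HL_mem : ∀ H < 47, H % 2 = 1 → H % 3 ≠ 0 → H ∈ HL := by decide

theorem finm_lt {m : ℕ} (h5 : 5 ≤ m) (h : m < 200) : finm m = true := by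
  rcases Nat.lt_or_ge m 9 with h1 | h1
  · have : m = 5 ∨ m = 6 ∨ m = 7 ∨ m = 8 := by omega
    rcases this with rfl | rfl | rfl | rfl
    · exact finm_five
    · exact finm_six
    · exact finm_seven
    · exact finm_eight
  rcases Nat.lt_or_ge m 60 with h2 | h2
  · have h3 := List.all_eq_true.1 finm_b (m - 9) (List.mem_range.2 (by omega))
    simpa [Nat.sub_add_cancel h1] using h3
  · have h3 := List.all_eq_true.1 finm_c (m - 60) (List.mem_range.2 (by omega))
    simpa [Nat.sub_add_cancel h2] using h3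

/-- outside the exceptional cases -/
theorem NE.gen (h : NE s e m k u q p H M N d a b c) (hd : d = Nat.gcd m (AA e 1 u)) (hs : q ^ 5 ≤ 48 * M)
    (hH : 1 ≤ H) (h2 : H % 2 = 1) (h3 : ¬ 3 ∣ H) (hw : ∃ w, 2 ≤ w ∧ u = w ^ H)
    (hex : ¬ (s = false ∧ e = true ∧ u = 2 ∧ k + 2 = m)) (h6 : ¬ (m = 6 ∧ s = false ∧ k = 3)) :
    (m, s, k, e, u, H) ∈ bad5 := by
  obtain ⟨w, hw2, hw⟩ := hw
  have h2H : 2 ^ H ≤ u := by rw [hw]; exact Nat.pow_le_pow_left hw2 H
  have hk := h.k3
  have hkm := h.km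
  have hdm : d ≤ m := by rw [hd]; exact Nat.gcd_le_left _ (by omega)
  rcases Nat.lt_or_ge m 200 with hm | hm
  · have h1 := finm_lt (by omega) hm
    have h4 := List.all_eq_true.1 h1 k (List.mem_range.2 (by omega))
    have h5 : fink s m k = true := by
      simp only [Bool.or_eq_true, Bool.and_eq_true, decide_eq_true_eq] at h4
      have h6' := h4.resolve_left (by omega)
      cases s with
      | true =>
        refine h6'.1.resolve_left fun h7 => h.nk ?_
        exact Nat.dvd_of_mod_eq_zero h7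
      | false =>
        refine h6'.2.resolve_left fun h7 => ?_
        rcases h7 with h7 | h7
        · exact h.nk (Nat.dvd_of_mod_eq_zero h7)
        · exact h6 ⟨h7.1, rfl, h7.2⟩
    rw [fink, Bool.or_eq_true, Bool.and_eq_true] at h5
    rcases h5 with h5 | ⟨h5, h6'⟩
    · obtain ⟨j, hj⟩ := exists_str h5
      exact (h.of_cr hdm hs hH hex (str5_cr h.u2 h2H hj)).elim
    · have h7 : (∃ j, cr s m k u H j = true) ∨ okk s m k u H = true := by
        rcases Nat.lt_or_ge H 47 with h8 | h8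
        · have h9 := List.all_eq_true.1 h5 H (HL_mem H h8 h2 (fun h10 => h3 (Nat.dvd_of_mod_eq_zero h10)))
          rw [hw]
          exact scan_spec h9 w hw2
        · left
          obtain ⟨j, hj⟩ := exists_cr h6'
          have key : ∀ n, 47 ≤ n → cr s m k (2 ^ n) n j = true := by
            intro n hn
            induction n, hn using Nat.le_induction with
            | base => exact hj
            | succ n hn ih => exact cr_succ (by omega) (by omega) (by omega) ih
          exact ⟨j, cr_mono h2H (key H h8)⟩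
      rcases h7 with ⟨j, hj⟩ | h7
      · exact (h.of_cr hdm hs hH hex hj).elim
      · rw [okk, Bool.and_eq_true, Bool.or_eq_true, Bool.or_eq_true, Bool.or_eq_true, Bool.or_eq_true,
          Bool.and_eq_true, Bool.and_eq_true, Bool.and_eq_true, decide_eq_true_eq, decide_eq_true_eq,
          decide_eq_true_eq] at h7
        obtain ⟨ha, hb⟩ := h7
        cases e with
        | true =>
          rcases ha with (h8 | h8) | h8
          · rcases exists_exq h8 with h9 | ⟨θ, j, hθ, h9⟩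
            · exact (h.of_exL hs h9).elim
            · exact (h.of_exq hd hs hθ h9).elim
          · exact List.contains_iff_mem.1 h8
          · exact absurd ⟨by simpa using h8.1, rfl, h8.2.1, h8.2.2⟩ hex
        | false =>
          rcases hb with (h8 | h8) | h8
          · rcases exists_exq h8 with h9 | ⟨θ, j, hθ, h9⟩
            · exact (h.of_exL hs h9).elim
            · exact (h.of_exq hd hs hθ h9).elim
          · exact List.contains_iff_mem.1 h8
          · exact absurd ⟨rfl, h8.1, h8.2⟩ h.ex1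
  · obtain ⟨j, hj⟩ := str5_of_large hm h.k3 h.km h.nk
    exact (h.of_cr hdm hs hH hex (str5_cr h.u2 h2H hj)).elim

/-- the exceptional case -/
theorem NE.exn (h : NE s e m k u q p H M N d a b c) (hd : d = Nat.gcd m (AA e 1 u)) (hs : q ^ 5 ≤ 48 * M)
    (hH : 1 ≤ H) (hw : ∃ w, 2 ≤ w ∧ u = w ^ H)
    (hex : s = false ∧ e = true ∧ u = 2 ∧ k + 2 = m) : (m, s, k, e, u, H) ∈ bad5 ∨ T2 a b c := by
  obtain ⟨rfl, rfl, rfl, hkm⟩ := hex
  have hk := h.k3
  have hH1 : H = 1 := by
    obtain ⟨w, hw2, hw⟩ := hw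
    by_contra hne
    have h1 : w ^ 2 ≤ w ^ H := Nat.pow_le_pow_right (by omega) (by omega)
    nlinarith
  subst hH1
  rcases h.R1f' with h1 | h1
  · left
    rcases Nat.lt_or_ge m 10 with h8 | h8
    · have : (m = 5 ∧ k = 3) ∨ (m = 6 ∧ k = 4) ∨ (m = 7 ∧ k = 5) ∨ (m = 8 ∧ k = 6) ∨ (m = 9 ∧ k = 7) := by omega
      rcases this with ⟨rfl, rfl⟩ | ⟨rfl, rfl⟩ | ⟨rfl, rfl⟩ | ⟨rfl, rfl⟩ | ⟨rfl, rfl⟩ <;> decide
    · exfalso
      have hA1 : AA true 1 2 = 1 := by decide
      rw [hA1, Nat.gcd_one_right] at hd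
      subst hd
      have e1 : m - 1 - k = 1 := by omega
      obtain ⟨x, hx⟩ : ∃ x, x = 2 ^ k := ⟨_, rfl⟩
      have hx64 : 256 ≤ x := by
        rw [hx]
        calc 256 = 2 ^ 8 := by norm_num
          _ ≤ 2 ^ k := Nat.pow_le_pow_right (by norm_num) (by omega)
      have hZ : ZZ false true m 2 = 2 * x - 1 := by
        rw [ZZ, if_neg (by simp), AA_true, hx, show m - 1 = k + 1 by omega, pow_succ, mul_comm]
      have hM := h.eqM
      rw [hZ] at hM
      rw [e1, hA1, AA_true, ← hx] at h1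
      refine semi5_false (θ := 2) (ρ := 1) (μ := 1) (d := 1) (H := 1) (by norm_num) h.q3 hM hs h1 ?_
      rw [chk5, Bool.and_eq_true, decide_eq_true_eq, decide_eq_true_eq]
      obtain ⟨y, hy⟩ : ∃ y, y = x - 1 := ⟨_, rfl⟩
      have hZ' : 2 * x - 1 = 2 * y + 1 := by omega
      have hy63 : 255 ≤ y := by omega
      rw [← hy, hZ']
      have c1 : 255 * (2 * y + 1) ≤ 511 * y := by omega
      have c2 : 255 ^ 3 ≤ y ^ 3 := Nat.pow_le_pow_left hy63 3
      have c3 : 255 ^ 4 ≤ y ^ 4 := Nat.pow_le_pow_left hy63 4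
      have c4 : (255 * (2 * y + 1)) ^ 2 ≤ (511 * y) ^ 2 := Nat.pow_le_pow_left c1 2
      constructor
      · have e2 : ((2 - 1) * y) ^ 5 * 1 = y ^ 4 * y := by ring
        have e3 : (2 * (1 * 1)) ^ 5 * (203 * (1 * (2 * y + 1))) = 6496 * (2 * y + 1) := by ring
        rw [e2, e3]
        have c5 := Nat.mul_le_mul_right y c3
        norm_num at c5
        omega
      · have e2 : y ^ 5 * 1 ^ 2 = y ^ 3 * y ^ 2 := by ring
        have e3 : (2 * (1 * 1)) ^ 5 * (203 ^ 2 * (1 * (2 * y + 1)) ^ 2) = 1318688 * (2 * y + 1) ^ 2 := by ring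
        rw [e2, e3]
        have c5 := Nat.mul_le_mul_right (y ^ 2) c2
        have c6 : 0 < y ^ 2 := Nat.pow_pos (by omega)
        rw [mul_pow, mul_pow] at c4
        norm_num at c4 c5
        omega
  · exact Or.inr h1.1

/-- **The leftover.** -/
theorem NE.main5 (h : NE s e m k u q p H M N d a b c) (hd : d = Nat.gcd m (AA e 1 u)) (hs : q ^ 5 ≤ 48 * M)
    (hH : 1 ≤ H) (h2 : H % 2 = 1) (h3 : ¬ 3 ∣ H) (hw : ∃ w, 2 ≤ w ∧ u = w ^ H)
    (h6 : ¬ (m = 6 ∧ s = false ∧ k = 3)) : (m, s, k, e, u, H) ∈ bad5 ∨ (T2 a b c ∧ u = 2) := by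
  by_cases hex : s = false ∧ e = true ∧ u = 2 ∧ k + 2 = m
  · rcases h.exn hd hs hH hw hex with h1 | h1
    · exact Or.inl h1
    · exact Or.inr ⟨h1, hex.2.2.1⟩
  · exact Or.inl (h.gen hd hs hH h2 h3 hw hex h6)

end Cfsg.Agent.R2.Spec.NA5
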