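import Cfsg.Agent.R2.Spec.NA5.SixFin
import Cfsg.Agent.R2.Spec.NA5.Nd5
import Cfsg.Agent.R2.Spec.E.Stm

/-!
# S3435, packet NON-A (helper3): the row "`w` not isolated, `S` linear or unitary", `dimL t ≥ 5`, all ranks of `S`
-/

set_option autoImplicit false

namespace Cfsg.Agent.R2.Spec.NA5

open Cfsg Cfsg.Agent.H426.LieFam Cfsg.Agent.R2.Spec Cfsg.Agent.R2.Spec.P1 Cfsg.Agent.R2.Spec.F1 Cfsg.Agent.R2.Spec.E
open Cfsg.Agent.R2.Spec.NA
open Cfsg.Agent.H403.NumTop hiding nu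

/-- **Packet NON-A, `dimL t ≥ 5`, all `m`, no size hypothesis.** -/
theorem nonA_five {t : Fam} {p f i j : ℕ} {t' : Fam} {v f' i' j' w H : ℕ} {S : Type} [Group S] [Finite S]
    (h : Duel t p f i j t' v f' i' j' w H S) (hr : 4 ≤ rk t) (hD : 5 ≤ dimL t) {m : ℕ}
    (ht' : t' = .psl m ∨ t' = .psu m) (hj : ¬ top t' j') : FamII t ∧ v ^ f' = 2 := by
  have hm : 4 ≤ m := by
    have h1 := rk_lin_of h.big h.is
    obtain ⟨-, -, h2, h3, -⟩ := h.big
    rcases ht' with rfl | rfl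
    · have h4 : m ≠ 3 := fun e => h2 (by rw [e])
      change 3 ≤ m at h1
      omega
    · have h4 : m ≠ 3 := fun e => h3 (by rw [e])
      change 3 ≤ m at h1
      omega
  obtain ⟨s, e, a, b, c, hN, hs, hT, hH, h2, h3, hw⟩ := h.ne5 hr hD hm ht' hj
  obtain ⟨hq3, hq2⟩ := f_q h.p_prime h.p_ne h.f_pos
  obtain ⟨a', b', c', hL⟩ := lnum h.p_prime h.p_ne h.f_pos hr h.pair
  by_cases h6 : m = 6 ∧ s = false ∧ j' = 3
  · obtain ⟨rfl, rfl, rfl⟩ := h6
    have hcop : Nat.Coprime (v ^ f') H := by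
      refine Nat.Coprime.pow_left _ ((Nat.Prime.coprime_iff_not_dvd h.v_prime).2 ?_)
      exact h.not_dvd_H hj h.v_prime (Or.inl rfl) (Or.inl rfl)
    exact (hN.six_false rfl hs hH h2 h3 hw hcop (f := f) rfl (t := t) (i := i) (j := j) hq2 hr hD h.pair rfl rfl
      hL.lowM).elim
  · rcases hN.main5 rfl hs hH h2 h3 hw h6 with hb | ⟨h4, h5⟩
    · exact (hN.not_bad5 rfl hs (f := f) rfl (t := t) (i := i) (j := j) hq2 hr hD h.pair rfl rfl hL.lowM hb).elim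
    · exact ⟨hT h4, h5⟩

end Cfsg.Agent.R2.Spec.NA5
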