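import Cfsg.Agent.R2.Spec.NA5.Brute5

/-!
# S3435, packet NON-A, `dimL t ≥ 5` (helper3): `(m, i', j') = (6, 5, 3)`

`τ = (y^3 - 1) (y + 1)` divides `d N`, `y^5 - 1 = (y^3 - 1) (y^2 - 1) + (y - 1) W`, `W = y^2 + 2 y + 2`, `τ = (y - 1) (y W + 1)`.
-/

set_option autoImplicit false

namespace Cfsg.Agent.R2.Spec.NA5

open Cfsg.Agent.R2.Spec.NA
open Cfsg.Agent.H403.NumTop hiding nu

variable {e : Bool} {u q p H M N d : ℕ} {a b c : ℤ}

theorem NE.six_div (h : NE false e 6 3 u q p H M N d a b c) : ∃ σ x : ℤ, (σ = 1 ∨ σ = -1) ∧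
    σ * a * H * ((xv e u - 1) * (xv e u ^ 2 + 2 * xv e u + 2)) - d * c =
      (xv e u - 1) * (xv e u * (xv e u ^ 2 + 2 * xv e u + 2) + 1) * x := by
  have hu := h.u2
  obtain ⟨y, hy⟩ : ∃ y, y = xv e u := ⟨_, rfl⟩
  have hM0 := h.eqM
  have hZ : ZZ false e 6 u = (y ^ 5 - 1).natAbs := by rw [hy, AA_natAbs (by omega)]; rfl
  rw [hZ] at hM0
  obtain ⟨σ, hσ, hσE⟩ : ∃ σ : ℤ, (σ = 1 ∨ σ = -1) ∧ (((y ^ 5 - 1).natAbs : ℕ) : ℤ) = σ * (y ^ 5 - 1) := by
    rcases Int.natAbs_eq (y ^ 5 - 1) with h | h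
    · exact ⟨1, Or.inl rfl, by rw [one_mul]; exact h.symm⟩
    · exact ⟨-1, Or.inr rfl, by linarith⟩
  have hMz : (d : ℤ) * M = H * (σ * (y ^ 5 - 1)) := by rw [← hσE]; exact_mod_cast hM0
  have e1 : σ * a * H * (y ^ 5 - 1) = d * b * N + d * c := by
    have h1 : (d : ℤ) * (a * M) = d * (b * N + c) := by rw [h.rel]
    linear_combination h1 - a * hMz
  -- the divisibility
  have d3 : y ^ 3 - 1 ∣ (d : ℤ) * N := by
    rw [← Int.natAbs_dvd, hy, AA_natAbs (by omega)]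
    exact_mod_cast h.n1.mul_left d
  have d2 : y ^ 2 - 1 ∣ (d : ℤ) * N := by
    rw [← Int.natAbs_dvd, hy, AA_natAbs (by omega)]
    exact_mod_cast h.n3 2 (by norm_num) (by norm_num)
  have hy1 : y - 1 ≠ 0 := by
    have h1 := AA_natAbs (e := e) (n := 1) (u := u) (by omega)
    have h2 := AA_pos (e := e) (n := 1) hu (by norm_num)
    rw [pow_one, ← hy] at h1
    intro h3
    rw [h3] at h1
    simp at h1; omega
  have dt : (y - 1) * (y * (y ^ 2 + 2 * y + 2) + 1) ∣ (d : ℤ) * N := by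
    obtain ⟨n, hn⟩ := (show y - 1 ∣ y ^ 2 - 1 from ⟨y + 1, by ring⟩).trans d2
    rw [hn] at d2 d3 ⊢
    have h1 : y + 1 ∣ n := by
      have : (y - 1) * (y + 1) ∣ (y - 1) * n := by rwa [show (y - 1) * (y + 1) = y ^ 2 - 1 by ring]
      exact (mul_dvd_mul_iff_left hy1).1 this
    have h2 : y ^ 2 + y + 1 ∣ n := by
      have : (y - 1) * (y ^ 2 + y + 1) ∣ (y - 1) * n := by rwa [show (y - 1) * (y ^ 2 + y + 1) = y ^ 3 - 1 by ring]
      exact (mul_dvd_mul_iff_left hy1).1 this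
    have h3 : IsCoprime (y + 1) (y ^ 2 + y + 1) := ⟨-y, 1, by ring⟩
    have h4 := h3.mul_dvd h1 h2
    rw [show y * (y ^ 2 + 2 * y + 2) + 1 = (y + 1) * (y ^ 2 + y + 1) by ring]
    exact mul_dvd_mul_left _ h4
  have dF : (y - 1) * (y * (y ^ 2 + 2 * y + 2) + 1) ∣ σ * a * H * ((y - 1) * (y ^ 2 + 2 * y + 2)) - d * c := by
    have h1 : σ * a * H * ((y - 1) * (y ^ 2 + 2 * y + 2)) - d * c =
        b * (d * N) - σ * a * H * (y - 1) * ((y - 1) * (y * (y ^ 2 + 2 * y + 2) + 1)) := by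
      linear_combination e1
    rw [h1]
    exact dvd_sub (dt.mul_left _) (Dvd.intro_left _ rfl)
  obtain ⟨x, hx⟩ := dF
  exact ⟨σ, x, hσ, by rw [← hy]; exact hx⟩

/-- large `u` -/
def Far6 (u H : ℕ) : Prop := 64 ≤ u ∧ 58929 * (6 + H) ^ 5 * H ^ 2 ≤ u ^ 5

theorem far6_bound {u : ℕ} (hu : 64 ≤ u) : 7 * u ^ 20 ≤ 10 * (u - 1) ^ 20 := by
  have h1 : 63 * u ≤ 64 * (u - 1) := by omega
  have h2 := Nat.pow_le_pow_left h1 20
  rw [mul_pow, mul_pow] at h2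
  have h3 : 64 ^ 20 * (7 * u ^ 20) ≤ 64 ^ 20 * (10 * (u - 1) ^ 20) := by
    calc 64 ^ 20 * (7 * u ^ 20) ≤ 10 * (63 ^ 20 * u ^ 20) := by
          have : 64 ^ 20 * 7 ≤ 10 * 63 ^ 20 := by norm_num
          nlinarith [Nat.zero_le (u ^ 20)]
      _ ≤ 10 * (64 ^ 20 * (u - 1) ^ 20) := Nat.mul_le_mul_left _ h2
      _ = _ := by ring
  exact Nat.le_of_mul_le_mul_left h3 (by norm_num)

theorem u5_bound {u : ℕ} (hu : 64 ≤ u) : 1000 * (u ^ 5 + 1) ^ 2 ≤ 1001 * u ^ 10 := by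
  have h1 : 64 ^ 5 ≤ u ^ 5 := Nat.pow_le_pow_left hu 5
  have h2 : u ^ 10 = u ^ 5 * u ^ 5 := by rw [← pow_add]
  rw [h2]
  nlinarith

theorem NE.six (h : NE false e 6 3 u q p H M N d a b c) (hd6 : d ≤ 6) (hs : q ^ 5 ≤ 48 * M) (hH : 1 ≤ H)
    (hcop : Nat.Coprime u H) {f : ℕ} (hqp : q = p ^ f) (h2H : 2 ^ H ≤ u) (hF : Far6 u H) : False := by
  obtain ⟨hu64, hF⟩ := hF
  have hu := h.u2
  have hq := h.q3
  obtain ⟨σ, x, hσ, hx⟩ := h.six_div
  obtain ⟨y, hy⟩ : ∃ y, y = xv e u := ⟨_, rfl⟩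
  rw [← hy] at hx
  have hyu : |y| = u := by rw [hy, Int.abs_eq_natAbs, xv_natAbs]
  -- the bound of `Q = q + 1`
  obtain ⟨Q, hQ⟩ : ∃ Q, Q = q + 1 := ⟨_, rfl⟩
  have hQ5 : Q ^ 5 ≤ 203 * (H * (u ^ 5 + 1)) := by
    have h2 : 3 * Q ≤ 4 * q := by omega
    have h3 := Nat.pow_le_pow_left h2 5
    rw [mul_pow, mul_pow] at h3
    have h4 : 3 ^ 5 * Q ^ 5 ≤ 4 ^ 5 * (48 * M) := h3.trans (Nat.mul_le_mul_left _ hs)
    have h5 : M ≤ H * (u ^ 5 + 1) := by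
      calc M = 1 * M := (one_mul _).symm
        _ ≤ d * M := Nat.mul_le_mul_right _ h.d_pos
        _ = H * ZZ false e 6 u := h.eqM
        _ ≤ H * (u ^ 5 + 1) := Nat.mul_le_mul_left _ AA_le
    omega
  have hQ10 : Q ^ 10 ≤ 41209 * (H ^ 2 * (u ^ 5 + 1) ^ 2) := by
    calc Q ^ 10 = (Q ^ 5) ^ 2 := by rw [← pow_mul]
      _ ≤ (203 * (H * (u ^ 5 + 1))) ^ 2 := Nat.pow_le_pow_left hQ5 2
      _ = _ := by ring
  have haQ : |a| ≤ Q := by
    have h1 := h.typ.a_le (show 1 ≤ q by omega)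
    rw [Int.abs_eq_natAbs, hQ]; exact_mod_cast h1
  have hcQ : |c| ≤ Q ^ 2 := by
    have h1 := h.typ.c_le (show 2 ≤ q by omega)
    rw [Int.abs_eq_natAbs, hQ, pow_two]; exact_mod_cast h1
  obtain ⟨A, hA⟩ : ∃ A, A = σ * a * H - x * y := ⟨_, rfl⟩
  obtain ⟨W, hW⟩ : ∃ W, W = y ^ 2 + 2 * y + 2 := ⟨_, rfl⟩
  obtain ⟨C, hC⟩ : ∃ C, C = A * W - x := ⟨_, rfl⟩
  have hdc : (d : ℤ) * c = (y - 1) * C := by
    rw [hC, hA, hW]; linear_combination -hx
  have hcases : y = u ∨ y = -(u : ℤ) := by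
    rcases abs_choice y with h1 | h1
    · left; rw [← hyu, h1]
    · right; rw [← hyu, h1, neg_neg]
  have huz : (64 : ℤ) ≤ u := by exact_mod_cast hu64
  have hy1 : (u : ℤ) - 1 ≤ |y - 1| := by
    rcases hcases with h1 | h1
    · rw [h1, abs_of_nonneg (by linarith)]
    · rw [h1, abs_of_neg (by linarith)]; linarith
  have hdz : ((d : ℕ) : ℤ) ≤ 6 := by exact_mod_cast hd6
  have hd0 : (0 : ℤ) ≤ d := Int.natCast_nonneg _
  have hQ0 : (0 : ℤ) ≤ Q := Int.natCast_nonneg _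
  have hCb : ((u : ℤ) - 1) * |C| ≤ 6 * Q ^ 2 := by
    calc ((u : ℤ) - 1) * |C| ≤ |y - 1| * |C| := mul_le_mul_of_nonneg_right hy1 (abs_nonneg _)
      _ = |(d : ℤ) * c| := by rw [hdc, abs_mul]
      _ = d * |c| := by rw [abs_mul, abs_of_nonneg hd0]
      _ ≤ 6 * Q ^ 2 := mul_le_mul hdz hcQ (abs_nonneg _) (by norm_num)
  have hWb : ((u : ℤ) - 1) ^ 2 ≤ W := by
    rw [hW]
    rcases hcases with h1 | h1
    · rw [h1]; nlinarith
    · rw [h1]; nlinarith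
  by_cases hA0 : A = 0
  · -- `A = 0`
    rw [hA0, zero_mul, zero_sub] at hC
    have e1 : σ * a * H = x * y := by rw [hA0] at hA; linarith
    have e2 : |a| * H = |x| * u := by
      have h1 := congrArg abs e1
      rw [abs_mul, abs_mul, abs_mul, hyu] at h1
      have h2 : |σ| = 1 := by rcases hσ with rfl | rfl <;> simp
      rwa [h2, one_mul, Nat.abs_cast] at h1
    have e3 : a.natAbs * H = x.natAbs * u := by
      have h1 : ((a.natAbs * H : ℕ) : ℤ) = ((x.natAbs * u : ℕ) : ℤ) := by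
        push_cast
        rw [e2]
      exact_mod_cast h1
    have e4 : u ∣ a.natAbs := by
      have h1 : u ∣ a.natAbs * H := by rw [e3]; exact Dvd.intro_left _ rfl
      exact hcop.dvd_of_dvd_mul_right h1
    rcases h.typ with ⟨s, hs', hab, hc⟩ | ⟨h1, h2, h3⟩
    · rcases hab with ⟨ha, hb⟩ | ⟨ha, hb⟩
      · -- `a = q + s`
        obtain ⟨t, ht⟩ := e4
        have h1 : (y - 1) ∣ d * (u : ℤ) ^ 2 * (t : ℤ) ^ 2 := by
          have h2 : c ∣ a ^ 2 := by rw [ha]; exact hc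
          have h3 : a ^ 2 = (u : ℤ) ^ 2 * (t : ℤ) ^ 2 := by
            rw [← Int.natAbs_sq a, ht]; push_cast; ring
          have h4 : (y - 1) ∣ (d : ℤ) * c := ⟨C, hdc⟩
          have h5 : (d : ℤ) * c ∣ d * a ^ 2 := mul_dvd_mul_left _ h2
          rw [h3] at h5
          rw [mul_assoc]
          exact h4.trans h5
        have h2 : IsCoprime (y - 1) ((u : ℤ) ^ 2) := by
          have h3 : IsCoprime (y - 1) y := ⟨-1, 1, by ring⟩
          have h4 : (u : ℤ) ^ 2 = y ^ 2 := by rw [← hyu, sq_abs]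
          rw [h4]
          exact h3.pow_right
        have h3 : (y - 1) ∣ d * (t : ℤ) ^ 2 := by
          have h4 : (y - 1) ∣ (u : ℤ) ^ 2 * (d * (t : ℤ) ^ 2) := by
            rwa [show (u : ℤ) ^ 2 * (d * (t : ℤ) ^ 2) = d * (u : ℤ) ^ 2 * (t : ℤ) ^ 2 by ring]
          exact h2.dvd_of_dvd_mul_left h4
        have ha0 : 0 < a.natAbs := by
          rw [ha]
          rcases hs' with rfl | rfl <;> omega
        have ht0 : 0 < t := by
          rcases Nat.eq_zero_or_pos t with h4 | h4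
          · rw [h4, mul_zero] at ht; omega
          · exact h4
        have hd1 := h.d_pos
        have h4 : |y - 1| ≤ d * (t : ℤ) ^ 2 := by
          have h5 : (0 : ℤ) < d * (t : ℤ) ^ 2 := by positivity
          have h6 := Int.le_of_dvd h5 ((abs_dvd _ _).2 h3)
          exact h6
        have h5 : u - 1 ≤ 6 * t ^ 2 := by
          have h6 : ((u : ℤ) - 1) ≤ 6 * (t : ℤ) ^ 2 := by
            calc ((u : ℤ) - 1) ≤ |y - 1| := hy1
              _ ≤ d * (t : ℤ) ^ 2 := h4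
              _ ≤ 6 * (t : ℤ) ^ 2 := mul_le_mul_of_nonneg_right hdz (by positivity)
          have : u ≤ 6 * t ^ 2 + 1 := by
            have : (u : ℤ) ≤ ((6 * t ^ 2 + 1 : ℕ) : ℤ) := by push_cast; linarith
            exact_mod_cast this
          omega
        have h6 : u * t ≤ Q := by
          rw [← ht]
          have := h.typ.a_le (show 1 ≤ q by omega)
          omega
        have h7 : (u - 1) * u ^ 2 ≤ 6 * Q ^ 2 := by
          calc (u - 1) * u ^ 2 ≤ 6 * t ^ 2 * u ^ 2 := Nat.mul_le_mul_right _ h5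
            _ = 6 * (u * t) ^ 2 := by ring
            _ ≤ 6 * Q ^ 2 := Nat.mul_le_mul_left _ (Nat.pow_le_pow_left h6 2)
        -- sizes
        have h8 : ((u - 1) * u ^ 2) ^ 5 ≤ 7776 * (41209 * (H ^ 2 * (u ^ 5 + 1) ^ 2)) := by
          calc ((u - 1) * u ^ 2) ^ 5 ≤ (6 * Q ^ 2) ^ 5 := Nat.pow_le_pow_left h7 5
            _ = 7776 * Q ^ 10 := by ring
            _ ≤ _ := Nat.mul_le_mul_left _ hQ10
        have h9 := u5_bound hu64
        have h10 : 63 ^ 5 * u ^ 5 ≤ 64 ^ 5 * (u - 1) ^ 5 := by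
          rw [← mul_pow, ← mul_pow]; exact Nat.pow_le_pow_left (by omega) 5
        have h11 : 63 ^ 5 * 1000 * u ^ 15 ≤ 64 ^ 5 * (7776 * 41209 * 1001) * H ^ 2 * u ^ 10 := by
          calc 63 ^ 5 * 1000 * u ^ 15 = 1000 * (63 ^ 5 * u ^ 5) * u ^ 10 := by ring
            _ ≤ 1000 * (64 ^ 5 * (u - 1) ^ 5) * u ^ 10 :=
              Nat.mul_le_mul_right _ (Nat.mul_le_mul_left _ h10)
            _ = 1000 * 64 ^ 5 * ((u - 1) * u ^ 2) ^ 5 := by ring
            _ ≤ 1000 * 64 ^ 5 * (7776 * (41209 * (H ^ 2 * (u ^ 5 + 1) ^ 2))) := Nat.mul_le_mul_left _ h8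
            _ = 64 ^ 5 * (7776 * 41209) * H ^ 2 * (1000 * (u ^ 5 + 1) ^ 2) := by ring
            _ ≤ 64 ^ 5 * (7776 * 41209) * H ^ 2 * (1001 * u ^ 10) := Nat.mul_le_mul_left _ h9
            _ = _ := by ring
        have h12 : 63 ^ 5 * 1000 * u ^ 5 ≤ 64 ^ 5 * (7776 * 41209 * 1001) * H ^ 2 := by
          have h13 : 63 ^ 5 * 1000 * u ^ 5 * u ^ 10 ≤ 64 ^ 5 * (7776 * 41209 * 1001) * H ^ 2 * u ^ 10 := by
            calc _ = 63 ^ 5 * 1000 * u ^ 15 := by ring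
              _ ≤ _ := h11
          exact Nat.le_of_mul_le_mul_right h13 (Nat.pow_pos (by omega))
        have h14 : 58929 * 16807 * H ^ 2 ≤ u ^ 5 := by
          refine le_trans ?_ hF
          refine Nat.mul_le_mul_right _ (Nat.mul_le_mul_left _ ?_)
          calc 16807 = 7 ^ 5 := by norm_num
            _ ≤ (6 + H) ^ 5 := Nat.pow_le_pow_left (by omega) 5
        have h15 : 1 ≤ H ^ 2 := Nat.one_le_pow _ _ hH
        have h16 : 63 ^ 5 * 1000 * (58929 * 16807 * H ^ 2) ≤ 64 ^ 5 * (7776 * 41209 * 1001) * H ^ 2 :=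
          (Nat.mul_le_mul_left _ h14).trans h12
        norm_num at h16
        omega
      · -- `a = q`
        rw [ha, Int.natAbs_natCast, hqp] at e4
        have h1 : Nat.Coprime u (p ^ f) :=
          (Nat.Coprime.pow_left f ((Nat.Prime.coprime_iff_not_dvd h.p_prime).2 h.pu)).symm
        have h2 := Nat.eq_one_of_dvd_coprimes h1.symm e4 dvd_rfl
        omega
    · rw [h1] at e4
      have h4 := Nat.le_of_dvd (by norm_num) e4
      simp at h4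
      omega
  · -- `A ≠ 0`
    have hA1 : 1 ≤ |A| := Int.one_le_abs hA0
    have hx0 := abs_nonneg x
    have hC0 := abs_nonneg C
    have f1 : |A| * W ≤ |C| + |x| := by
      have h1 : A * W = C + x := by rw [hC]; ring
      have h2 : |A * W| ≤ |C| + |x| := by rw [h1]; exact abs_add_le _ _
      rwa [abs_mul, abs_of_nonneg (show 0 ≤ W by nlinarith)] at h2
    have hHz : (0 : ℤ) ≤ H := Int.natCast_nonneg _
    have f2 : |x| * u ≤ Q * H + |A| := by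
      have h1 : x * y = σ * a * H - A := by rw [hA]; ring
      have h2 : |x * y| ≤ |σ * a * H| + |A| := by rw [h1]; exact abs_sub _ _
      have h3 : |σ * a * H| = |a| * H := by
        rw [abs_mul, abs_mul]
        have h2 : |σ| = 1 := by rcases hσ with rfl | rfl <;> simp
        rw [h2, one_mul, Nat.abs_cast]
      rw [abs_mul, hyu, h3] at h2
      have h4 : |a| * H ≤ Q * H := mul_le_mul_of_nonneg_right haQ hHz
      linarith
    have hW1 : 1 ≤ W := by nlinarith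
    have f3 : |x| * ((u : ℤ) - 1) ≤ Q * H + |C| := by
      have h1 : |A| ≤ |A| * W := by nlinarith
      nlinarith
    have f4 : ((u : ℤ) - 1) ^ 2 ≤ |C| + |x| := by nlinarith
    have f5 : ((u : ℤ) - 1) ^ 3 ≤ u * |C| + Q * H := by
      have h1 : (((u : ℤ) - 1) ^ 2) * ((u : ℤ) - 1) ≤ (|C| + |x|) * ((u : ℤ) - 1) :=
        mul_le_mul_of_nonneg_right f4 (by linarith)
      nlinarith
    have hQ1 : (1 : ℤ) ≤ Q := by rw [hQ]; push_cast; linarith [Int.natCast_nonneg q]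
    have f6 : ((u : ℤ) - 1) ^ 4 ≤ u * (Q ^ 2 * (6 + H)) := by
      have h1 : (((u : ℤ) - 1) ^ 3) * ((u : ℤ) - 1) ≤ (u * |C| + Q * H) * ((u : ℤ) - 1) :=
        mul_le_mul_of_nonneg_right f5 (by linarith)
      have h2 : (u : ℤ) * (((u : ℤ) - 1) * |C|) ≤ u * (6 * Q ^ 2) := mul_le_mul_of_nonneg_left hCb (by linarith)
      have h3 : (Q : ℤ) * H * ((u : ℤ) - 1) ≤ Q ^ 2 * H * u := by
        have h4 : (Q : ℤ) * H ≤ Q ^ 2 * H := by
          have h6 : (0 : ℤ) ≤ Q * H := by positivity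
          calc (Q : ℤ) * H = 1 * (Q * H) := (one_mul _).symm
            _ ≤ Q * (Q * H) := mul_le_mul_of_nonneg_right hQ1 h6
            _ = Q ^ 2 * H := by ring
        have h5 : (0 : ℤ) ≤ Q ^ 2 * H := by positivity
        calc (Q : ℤ) * H * ((u : ℤ) - 1) ≤ Q ^ 2 * H * ((u : ℤ) - 1) := mul_le_mul_of_nonneg_right h4 (by linarith)
          _ ≤ Q ^ 2 * H * u := mul_le_mul_of_nonneg_left (by linarith) h5
      calc ((u : ℤ) - 1) ^ 4 = (((u : ℤ) - 1) ^ 3) * ((u : ℤ) - 1) := by ring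
        _ ≤ (u * |C| + Q * H) * ((u : ℤ) - 1) := h1
        _ = (u : ℤ) * (((u : ℤ) - 1) * |C|) + Q * H * ((u : ℤ) - 1) := by ring
        _ ≤ u * (6 * Q ^ 2) + Q ^ 2 * H * u := add_le_add h2 h3
        _ = _ := by ring
    have f7 : (u - 1) ^ 4 ≤ u * (Q ^ 2 * (6 + H)) := by
      have h1 : (((u - 1 : ℕ)) : ℤ) = (u : ℤ) - 1 := by push_cast [Nat.cast_sub (show 1 ≤ u by omega)]; ring
      have h2 : (((u - 1) ^ 4 : ℕ) : ℤ) ≤ ((u * (Q ^ 2 * (6 + H)) : ℕ) : ℤ) := by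
        push_cast [h1]
        exact f6
      exact_mod_cast h2
    have f8 : (u - 1) ^ 20 ≤ u ^ 5 * ((41209 * (H ^ 2 * (u ^ 5 + 1) ^ 2)) * (6 + H) ^ 5) := by
      calc (u - 1) ^ 20 = ((u - 1) ^ 4) ^ 5 := by rw [← pow_mul]
        _ ≤ (u * (Q ^ 2 * (6 + H))) ^ 5 := Nat.pow_le_pow_left f7 5
        _ = u ^ 5 * (Q ^ 10 * (6 + H) ^ 5) := by ring
        _ ≤ _ := Nat.mul_le_mul_left _ (Nat.mul_le_mul_right _ hQ10)
    have f9 := far6_bound hu64
    have f10 := u5_bound hu64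
    have f11 : 7000 * u ^ 20 ≤ 10 * 41209 * 1001 * (6 + H) ^ 5 * H ^ 2 * u ^ 15 := by
      calc 7000 * u ^ 20 = 1000 * (7 * u ^ 20) := by ring
        _ ≤ 1000 * (10 * (u - 1) ^ 20) := Nat.mul_le_mul_left _ f9
        _ ≤ 1000 * (10 * (u ^ 5 * ((41209 * (H ^ 2 * (u ^ 5 + 1) ^ 2)) * (6 + H) ^ 5))) :=
          Nat.mul_le_mul_left _ (Nat.mul_le_mul_left _ f8)
        _ = 10 * 41209 * (6 + H) ^ 5 * H ^ 2 * u ^ 5 * (1000 * (u ^ 5 + 1) ^ 2) := by ring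
        _ ≤ 10 * 41209 * (6 + H) ^ 5 * H ^ 2 * u ^ 5 * (1001 * u ^ 10) := Nat.mul_le_mul_left _ f10
        _ = _ := by ring
    have f12 : 7000 * u ^ 5 ≤ 10 * 41209 * 1001 * (6 + H) ^ 5 * H ^ 2 := by
      have h1 : 7000 * u ^ 5 * u ^ 15 ≤ 10 * 41209 * 1001 * (6 + H) ^ 5 * H ^ 2 * u ^ 15 := by
        calc _ = 7000 * u ^ 20 := by ring
          _ ≤ _ := f11
      exact Nat.le_of_mul_le_mul_right h1 (Nat.pow_pos (by omega))
    have f13 : 0 < (6 + H) ^ 5 * H ^ 2 := Nat.mul_pos (Nat.pow_pos (by omega)) (Nat.pow_pos hH)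
    have f14 : 58929 * (6 + H) ^ 5 * H ^ 2 = 58929 * ((6 + H) ^ 5 * H ^ 2) := by ring
    have f15 : 10 * 41209 * 1001 * (6 + H) ^ 5 * H ^ 2 = 412502090 * ((6 + H) ^ 5 * H ^ 2) := by ring
    rw [f14] at hF
    rw [f15] at f12
    omega

end Cfsg.Agent.R2.Spec.NA5
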