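import Cfsg.Agent.R2.Spec.NA5.Six

/-!
# S3435, packet NON-A, `dimL t ≥ 5` (helper3): `(m, i', j') = (6, 5, 3)`, end
-/

set_option autoImplicit false

namespace Cfsg.Agent.R2.Spec.NA5

open Cfsg Cfsg.Agent.H426.LieFam Cfsg.Agent.R2.Spec Cfsg.Agent.R2.Spec.P1 Cfsg.Agent.R2.Spec.E
open Cfsg.Agent.R2.Spec.NA
open Cfsg.Agent.H403.NumTop hiding nu

def L6 : List (ℕ × ℕ) := (List.range 62).map (fun i => (i + 2, 1)) ++ [(32, 5), (128, 7)]

set_option maxRecDepth 100000 in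
theorem L6_brT : (L6.all fun x => brT (6, false, 3, true, x.1, x.2) && brT (6, false, 3, false, x.1, x.2)) = true := by
  decide +kernel

theorem Far6.mono {u v H : ℕ} (h : Far6 u H) (huv : u ≤ v) : Far6 v H :=
  ⟨h.1.trans huv, h.2.trans (Nat.pow_le_pow_left huv _)⟩

theorem far6_two {H : ℕ} (h : 11 ≤ H) : Far6 (2 ^ H) H := by
  have h0 : 64 ≤ 2 ^ H := by
    calc 64 = 2 ^ 6 := by norm_num
      _ ≤ 2 ^ H := Nat.pow_le_pow_right (by norm_num) (by omega)
  refine ⟨h0, ?_⟩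
  have key : 600000 * H ^ 7 ≤ (2 ^ H) ^ 5 := by
    clear h0
    induction H, h using Nat.le_induction with
    | base => norm_num
    | succ n hn ih =>
      have h1 : 11 * (n + 1) ≤ 12 * n := by omega
      have h2 := Nat.pow_le_pow_left h1 7
      rw [mul_pow, mul_pow] at h2
      have h3 : (n + 1) ^ 7 ≤ 2 * n ^ 7 := by omega
      have h4 : (2 ^ (n + 1)) ^ 5 = 32 * (2 ^ n) ^ 5 := by rw [pow_succ 2 n, mul_pow]; ring
      rw [h4]
      omega
  refine le_trans ?_ key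
  have h1 : 11 * (6 + H) ≤ 17 * H := by omega
  have h2 := Nat.pow_le_pow_left h1 5
  rw [mul_pow, mul_pow] at h2
  have h3 : 11 ^ 5 * (58929 * (6 + H) ^ 5 * H ^ 2) ≤ 11 ^ 5 * (600000 * H ^ 7) := by
    calc 11 ^ 5 * (58929 * (6 + H) ^ 5 * H ^ 2) = 58929 * H ^ 2 * (11 ^ 5 * (6 + H) ^ 5) := by ring
      _ ≤ 58929 * H ^ 2 * (17 ^ 5 * H ^ 5) := Nat.mul_le_mul_left _ h2
      _ = 58929 * 17 ^ 5 * H ^ 7 := by ring
      _ ≤ 11 ^ 5 * 600000 * H ^ 7 := Nat.mul_le_mul_right _ (by norm_num)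
      _ = _ := by ring
  exact Nat.le_of_mul_le_mul_left h3 (by norm_num)

theorem far6_or {u w H : ℕ} (hH : H % 2 = 1) (hH3 : ¬ 3 ∣ H) (hw : 2 ≤ w) (hu : u = w ^ H) : Far6 u H ∨ (u, H) ∈ L6 := by
  have key : ∀ w0 : ℕ, Far6 (w0 ^ H) H → w0 ≤ w → Far6 u H := fun w0 h1 h2 => by
    rw [hu]; exact h1.mono (Nat.pow_le_pow_left h2 _)
  rcases Nat.lt_or_ge H 11 with h1 | h1
  · have h2 : H = 1 ∨ H = 5 ∨ H = 7 := by omega
    rcases h2 with rfl | rfl | rfl
    · rcases Nat.lt_or_ge w 64 with h3 | h3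
      · right
        rw [pow_one] at hu
        rw [hu]
        refine List.mem_append_left _ (List.mem_map.2 ⟨w - 2, List.mem_range.2 (by omega), ?_⟩)
        rw [show w - 2 + 2 = w by omega]
      · exact Or.inl (key 64 (by unfold Far6; norm_num) h3)
    · rcases Nat.lt_or_ge w 3 with h3 | h3
      · right
        refine List.mem_append_right _ ?_
        rw [hu]; interval_cases w; simp
      · exact Or.inl (key 3 (by unfold Far6; norm_num) h3)
    · rcases Nat.lt_or_ge w 3 with h3 | h3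
      · right
        refine List.mem_append_right _ ?_
        rw [hu]; interval_cases w; simp
      · exact Or.inl (key 3 (by unfold Far6; norm_num) h3)
  · exact Or.inl (key 2 (far6_two h1) hw)

variable {e : Bool} {u q p H M N d : ℕ} {a b c : ℤ}

theorem NE.six_false (h : NE false e 6 3 u q p H M N d a b c) (hd : d = Nat.gcd 6 (AA e 1 u)) (hs : q ^ 5 ≤ 48 * M)
    (hH : 1 ≤ H) (h2 : H % 2 = 1) (h3 : ¬ 3 ∣ H) (hw : ∃ w, 2 ≤ w ∧ u = w ^ H) (hcop : Nat.Coprime u H)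
    {f : ℕ} (hqp : q = p ^ f) {t : Fam} {i j : ℕ} (hq2 : q % 2 = 1) (hr : 4 ≤ rk t) (hD : 5 ≤ dimL t)
    (hP : PairOK t i j) (hM : M = ttor t q i) (hN : N = ttor t q j) (hlow : q ^ dimL t ≤ 8 * dgL t q * M) : False := by
  obtain ⟨w, hw2, hw⟩ := hw
  have h2H : 2 ^ H ≤ u := by rw [hw]; exact Nat.pow_le_pow_left hw2 H
  have hd6 : d ≤ 6 := by rw [hd]; exact Nat.gcd_le_left _ (by norm_num)
  rcases far6_or h2 h3 hw2 hw with hF | hL
  · exact h.six hd6 hs hH hcop hqp h2H hF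
  · have h4 := List.all_eq_true.1 L6_brT _ hL
    rw [Bool.and_eq_true] at h4
    refine h.not_brT hd hs hqp hq2 hr hD hP hM hN hlow ?_
    cases e with
    | true => exact h4.1
    | false => exact h4.2

end Cfsg.Agent.R2.Spec.NA5
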